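import Mathlib

/-! Criteria for fpqc coverings. -/

set_option autoImplicit false
universe w w' u
open CategoryTheory CategoryTheory.Limits AlgebraicGeometry TopologicalSpace

namespace Groth.Agent.FpqcCrit

variable {T : Scheme.{u}}

theorem mem_fpqc_iff (E : PreZeroHypercover.{w} T) :
    E.presieve₀ ∈ Scheme.fpqcPrecoverage T ↔
      QuasiCompactCover E ∧ (∀ t : T, ∃ i, t ∈ Set.range (E.f i)) ∧ ∀ i, Flat (E.f i) := by
  rw [← Scheme.presieve₀_mem_qcPrecoverage_iff, ← Scheme.presieve₀_mem_precoverage_iff]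
  rfl

/-- A pointwise compact neighbourhood criterion. -/
theorem quasiCompactCover_of_nhds [QuasiSeparatedSpace T] (E : PreZeroHypercover.{w} T)
    (h : ∀ t : T, ∃ (n : ℕ) (i : Fin n → E.I₀) (V : ∀ j, (E.X (i j)).Opens),
      (∀ j, IsCompact (V j : Set (E.X (i j)))) ∧
        (⋃ j, ⇑(E.f (i j)) '' (V j : Set (E.X (i j)))) ∈ nhds t) : QuasiCompactCover E := by
  refine ⟨fun {U} hU => IsCompactOpenCovered.of_isCompact_of_forall_exists_isCompactOpenCovered
    hU.isCompact fun x hx => ?_⟩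
  obtain ⟨n, i, V, hV, hN⟩ := h x
  obtain ⟨N, hN1, hN2, hxN⟩ := mem_nhds_iff.mp hN
  obtain ⟨O, hO, hxO, hle⟩ := exists_isAffineOpen_mem_and_subset (x := x) (U := U ⊓ ⟨N, hN2⟩) ⟨hx, hxN⟩
  refine ⟨O, fun y hy => (hle hy).1, hxO, O.2, ?_⟩
  refine IsCompactOpenCovered.of_finite i (fun j => V j ⊓ (E.f (i j)) ⁻¹ᵁ O) (fun j => ?_) ?_
  · have : CompactSpace (V j) := isCompact_iff_compactSpace.mp (hV j)
    have hc := (((V j).ι ≫ E.f (i j)).isCompact_preimage (U := O) hO.isCompact).image (V j).ι.continuous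
    convert hc using 1
    ext y
    exact ⟨fun hy => ⟨⟨y, hy.1⟩, hy.2, rfl⟩, fun ⟨z, hz, e⟩ => e ▸ ⟨z.2, hz⟩⟩
  · refine Set.Subset.antisymm (Set.iUnion_subset fun j => ?_) fun y hy => ?_
    · rintro _ ⟨z, hz, rfl⟩
      exact hz.2
    · obtain ⟨j, z, hz, rfl⟩ := Set.mem_iUnion.mp (hN1 (hle hy).2)
      exact Set.mem_iUnion.mpr ⟨j, z, ⟨hz, hy⟩, rfl⟩

theorem nhds_of_quasiCompactCover (E : PreZeroHypercover.{w} T) [QuasiCompactCover E] (t : T) :
    ∃ (n : ℕ) (i : Fin n → E.I₀) (V : ∀ j, (E.X (i j)).Opens),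
      (∀ j, IsCompact (V j : Set (E.X (i j)))) ∧
        (⋃ j, ⇑(E.f (i j)) '' (V j : Set (E.X (i j)))) ∈ nhds t := by
  obtain ⟨U, hU, htU, -⟩ := exists_isAffineOpen_mem_and_subset (x := t) (U := ⊤) (Set.mem_univ t)
  obtain ⟨n, i, V, hV, he⟩ := QuasiCompactCover.exists_isAffineOpen_of_isCompact E hU.isCompact
  exact ⟨n, i, V, fun j => (hV j).isCompact, he.symm ▸ U.2.mem_nhds htU⟩

/-- A criterion by standard coverings of the affine opens. -/
theorem quasiCompactCover_of_refining (E : PreZeroHypercover.{w} T)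
    (h : ∀ U : T.Opens, IsAffineOpen U → ∃ F : PreZeroHypercover.{w'} (U : Scheme.{u}),
      Finite F.I₀ ∧ (∀ j, IsAffine (F.X j)) ∧ (∀ z, ∃ j, z ∈ Set.range (F.f j)) ∧
      ∀ j, ∃ (i : E.I₀) (g : F.X j ⟶ E.X i), g ≫ E.f i = F.f j ≫ U.ι) : QuasiCompactCover E := by
  refine ⟨fun {U} hU => ?_⟩
  obtain ⟨F, hfin, haff, hsurj, href⟩ := h U hU
  choose i g hg using href
  refine IsCompactOpenCovered.of_comp (fun j => ⇑(F.f j ≫ U.ι)) (a := i) (fun j => ⇑(g j))
    (fun j => (g j).continuous) (fun j => funext fun x => by rw [← hg j]; rfl)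
    (fun j => (E.f j).continuous) U.2 ?_
  refine IsCompactOpenCovered.of_finite (κ := F.I₀) id (fun j => ⊤) (fun j => isCompact_univ) ?_
  ext x
  constructor
  · rintro hx
    obtain ⟨j, z, -, rfl⟩ := Set.mem_iUnion.mp hx
    exact (F.f j z).2
  · intro hx
    obtain ⟨j, z, hz⟩ := hsurj ⟨x, hx⟩
    exact Set.mem_iUnion.mpr ⟨j, z, trivial, congrArg U.ι hz⟩

theorem mem_fpqc_iff_sigmaDesc (E : PreZeroHypercover.{u} T) :
    E.presieve₀ ∈ Scheme.fpqcPrecoverage T ↔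
      Presieve.singleton (Sigma.desc E.f) ∈ Scheme.fpqcPrecoverage T := by
  rw [← PreZeroHypercover.presieve₀_singleton.{u}, mem_fpqc_iff, mem_fpqc_iff]
  have hι : ∀ i, Sigma.ι E.X i ≫ Sigma.desc E.f = E.f i := fun i => Sigma.ι_desc _ _
  constructor
  · rintro ⟨hqc, hs, hf⟩
    refine ⟨?_, fun t => ?_, fun _ => ?_⟩
    · exact QuasiCompactCover.of_hom (𝒱 := E) ⟨fun _ => ⟨⟩, fun i => Sigma.ι E.X i, hι⟩
    · obtain ⟨i, x, hx⟩ := hs t
      exact ⟨⟨⟩, Sigma.ι E.X i x, by rw [← hx, ← hι i]; rfl⟩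
    · exact IsZariskiLocalAtSource.sigmaDesc (P := @Flat) hf
  · rintro ⟨hqc, hs, hf⟩
    have hfl : Flat (Sigma.desc E.f) := hf ⟨⟩
    refine ⟨?_, fun t => ?_, fun i => ?_⟩
    · haveI := hqc
      let f : ∀ i : (PreZeroHypercover.singleton.{u} (Sigma.desc E.f)).I₀,
          PreZeroHypercover.{u} ((PreZeroHypercover.singleton.{u} (Sigma.desc E.f)).X i) :=
        fun _ => (sigmaOpenCover E.X).toPreZeroHypercover
      haveI : ∀ i, QuasiCompactCover (f i) := fun _ =>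
        inferInstanceAs (QuasiCompactCover (sigmaOpenCover E.X).toPreZeroHypercover)
      let B := (PreZeroHypercover.singleton.{u} (Sigma.desc E.f)).bind f
      exact QuasiCompactCover.of_hom (𝒱 := B) ⟨fun p => p.2, fun p => 𝟙 _, fun p => by
        exact (Category.id_comp _).trans (hι p.2).symm⟩
    · obtain ⟨i₀, x, hx⟩ := hs t
      obtain ⟨i, z, rfl⟩ := (sigmaOpenCover E.X).exists_eq x
      exact ⟨i, z, by rw [← hι i]; exact hx⟩
    · rw [← hι i]; infer_instance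

theorem mem_fpqc_of_locally (E : PreZeroHypercover.{u} T) (hflat : ∀ i, Flat (E.f i))
    (V : PreZeroHypercover.{w} T) (hV : V.presieve₀ ∈ Scheme.fpqcPrecoverage T)
    (hloc : ∀ j, (E.pullback₁ (V.f j)).presieve₀ ∈ Scheme.fpqcPrecoverage (V.X j)) :
    E.presieve₀ ∈ Scheme.fpqcPrecoverage T := by
  rw [mem_fpqc_iff] at hV ⊢
  obtain ⟨hqc, hs, -⟩ := hV
  have hl := fun j => (mem_fpqc_iff _).mp (hloc j)
  haveI := hqc
  haveI := fun j => (hl j).1
  refine ⟨?_, fun t => ?_, hflat⟩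
  · let W := QuasiCompactCover.ulift V
    haveI : ∀ k, QuasiCompactCover (E.pullback₁ (W.f k)) := fun k => (hl _).1
    exact QuasiCompactCover.of_hom (𝒱 := W.bind fun k => E.pullback₁ (W.f k))
      ⟨fun p => p.2, fun p => pullback.snd _ _, fun p => pullback.condition.symm⟩
  · obtain ⟨j, x, rfl⟩ := hs t
    obtain ⟨i, z, rfl⟩ := (hl j).2.1 x
    exact ⟨i, pullback.snd (V.f j) (E.f i) z, by
      rw [← Scheme.Hom.comp_apply, ← pullback.condition]; rfl⟩

end Groth.Agent.FpqcCrit
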